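import Mathlib

set_option autoImplicit false

/-!
# Minimal normal subgroups normalize subnormal subgroups

`IsMinNormal M`: `M` is a minimal normal subgroup.
`exists_isMinNormal_le`: every nontrivial normal subgroup of a finite group contains one.
`IsMinNormal.le_normalizer`: a minimal normal subgroup normalizes every subnormal subgroup.
-/

namespace Cfsg.Agent.Lib.Helper96

open Subgroup
open scoped Pointwise

universe u

/-- `M` is a minimal normal subgroup of `G`. -/
def IsMinNormal {G : Type*} [Group G] (M : Subgroup G) : Prop :=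
  M.Normal ∧ M ≠ ⊥ ∧ ∀ N : Subgroup G, N.Normal → N ≤ M → N = ⊥ ∨ N = M

/-- Every nontrivial normal subgroup of a finite group contains a minimal normal subgroup. -/
theorem exists_isMinNormal_le {G : Type*} [Group G] [Finite G] (K : Subgroup G) (hK : K.Normal)
    (hne : K ≠ ⊥) : ∃ M : Subgroup G, IsMinNormal M ∧ M ≤ K := by
  classical
  let 𝒮 : Set (Subgroup G) := {N | N.Normal ∧ N ≠ ⊥ ∧ N ≤ K}
  have hne' : 𝒮.Nonempty := ⟨K, hK, hne, le_rfl⟩
  obtain ⟨M, hM⟩ := (Set.toFinite 𝒮).exists_minimal hne'
  obtain ⟨⟨hMn, hMne, hMK⟩, hmin⟩ := hM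
  refine ⟨M, ⟨hMn, hMne, ?_⟩, hMK⟩
  intro N hN hNM
  by_cases hNb : N = ⊥
  · exact Or.inl hNb
  · right
    exact le_antisymm hNM (hmin ⟨hN, hNb, hNM.trans hMK⟩ hNM)

/-- A subgroup `X ≤ K` that is minimal among the nontrivial subgroups normalized by `K`. -/
def IsMinRel {G : Type*} [Group G] (K X : Subgroup G) : Prop :=
  X ≤ K ∧ X ≠ ⊥ ∧ K ≤ normalizer (X : Set G) ∧
    ∀ Y : Subgroup G, Y ≤ X → K ≤ normalizer (Y : Set G) → Y = ⊥ ∨ Y = X

theorem le_normalizer_conj_smul {G : Type*} [Group G] (K X : Subgroup G) [K.Normal]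
    (h : K ≤ normalizer (X : Set G)) (g : G) :
    K ≤ normalizer ((MulAut.conj g • X : Subgroup G) : Set G) := by
  intro k hk
  rw [mem_normalizer_iff]
  intro x
  rw [mem_pointwise_smul_iff_inv_smul_mem, mem_pointwise_smul_iff_inv_smul_mem]
  simp only [MulAut.smul_def, ← map_inv, MulAut.conj_apply, inv_inv]
  have hk' : g⁻¹ * k * g ∈ K := by
    have := ‹K.Normal›.conj_mem k hk g⁻¹
    simpa using this
  have h1 := (mem_normalizer_iff.mp (h hk')) (g⁻¹ * x * g)
  rw [h1]
  have e : g⁻¹ * k * g * (g⁻¹ * x * g) * (g⁻¹ * k * g)⁻¹ = g⁻¹ * (k * x * k⁻¹) * g := by group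
  rw [e]

theorem IsMinRel.conj_smul {G : Type*} [Group G] {K X : Subgroup G} [K.Normal]
    (h : IsMinRel K X) (g : G) : IsMinRel K (MulAut.conj g • X) := by
  obtain ⟨hXK, hXne, hKX, hmin⟩ := h
  refine ⟨?_, ?_, le_normalizer_conj_smul K X hKX g, ?_⟩
  · intro x hx
    rw [mem_pointwise_smul_iff_inv_smul_mem] at hx
    simp only [MulAut.smul_def, ← map_inv, MulAut.conj_apply, inv_inv] at hx
    have := ‹K.Normal›.conj_mem _ (hXK hx) g
    simpa [mul_assoc] using this
  · intro hbot
    apply hXne
    have : (MulAut.conj g)⁻¹ • (MulAut.conj g • X) = (MulAut.conj g)⁻¹ • (⊥ : Subgroup G) := by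
      rw [hbot]
    rw [inv_smul_smul] at this
    rw [this]
    exact Subgroup.smul_bot _
  · intro Y hY hKY
    have hY' : (MulAut.conj g)⁻¹ • Y ≤ X := by
      rw [← Subgroup.pointwise_smul_le_pointwise_smul_iff (a := MulAut.conj g), smul_inv_smul]
      exact hY
    have hKY' : K ≤ normalizer (((MulAut.conj g)⁻¹ • Y : Subgroup G) : Set G) := by
      rw [← map_inv]
      exact le_normalizer_conj_smul K Y hKY g⁻¹
    rcases hmin _ hY' hKY' with h1 | h1
    · left
      have : MulAut.conj g • ((MulAut.conj g)⁻¹ • Y) = MulAut.conj g • (⊥ : Subgroup G) := by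
        rw [h1]
      rw [smul_inv_smul] at this
      rw [this]
      exact Subgroup.smul_bot _
    · right
      rw [← h1, smul_inv_smul]


/-- Inside a normal subgroup `K`, a nontrivial `K`-invariant subgroup contains a minimal one. -/
theorem exists_isMinRel_le {G : Type*} [Group G] [Finite G] (K M : Subgroup G) (hMK : M ≤ K)
    (hM : K ≤ normalizer (M : Set G)) (hne : M ≠ ⊥) : ∃ X : Subgroup G, IsMinRel K X ∧ X ≤ M := by
  classical
  let 𝒮 : Set (Subgroup G) := {N | N ≤ M ∧ N ≠ ⊥ ∧ K ≤ normalizer (N : Set G)}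
  have hne' : 𝒮.Nonempty := ⟨M, le_rfl, hne, hM⟩
  obtain ⟨X, hX⟩ := (Set.toFinite 𝒮).exists_minimal hne'
  obtain ⟨⟨hXM, hXne, hKX⟩, hmin⟩ := hX
  refine ⟨X, ⟨hXM.trans hMK, hXne, hKX, ?_⟩, hXM⟩
  intro Y hYX hKY
  by_cases hYb : Y = ⊥
  · exact Or.inl hYb
  · right
    exact le_antisymm hYX (hmin ⟨hYX.trans hXM, hYb, hKY⟩ hYX)

/-- Transfer: a minimal `K`-invariant subgroup gives a minimal normal subgroup of the group `K`. -/
theorem IsMinRel.isMinNormal_subgroupOf {G : Type*} [Group G] {K X : Subgroup G}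
    (h : IsMinRel K X) : IsMinNormal (X.subgroupOf K) := by
  obtain ⟨hXK, hXne, hKX, hmin⟩ := h
  refine ⟨(normal_subgroupOf_iff_le_normalizer hXK).mpr hKX, ?_, ?_⟩
  · intro hbot
    rw [subgroupOf_eq_bot] at hbot
    exact hXne (hbot.eq_bot_of_le hXK)
  · intro N' hN' hN'X
    have hYX : N'.map K.subtype ≤ X := by
      rw [map_le_iff_le_comap]
      exact hN'X
    have hYK : N'.map K.subtype ≤ K := hYX.trans hXK
    have hcm : (N'.map K.subtype).subgroupOf K = N' :=
      comap_map_eq_self_of_injective K.subtype_injective N'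
    have hKY : K ≤ normalizer ((N'.map K.subtype : Subgroup G) : Set G) := by
      rw [← normal_subgroupOf_iff_le_normalizer hYK, hcm]
      exact hN'
    rcases hmin _ hYX hKY with h1 | h1
    · left
      rw [← hcm, h1]
      exact bot_subgroupOf K
    · right
      rw [← hcm, h1]

theorem le_normalizer_of_subgroupOf_le_normalizer {G : Type*} [Group G] {K X H : Subgroup G}
    (hXK : X ≤ K) (hHK : H ≤ K) (hK : K.Normal)
    (h : X.subgroupOf K ≤ normalizer ((H.subgroupOf K : Subgroup K) : Set K)) :
    X ≤ normalizer (H : Set G) := by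
  intro x hx
  have hx' : (⟨x, hXK hx⟩ : K) ∈ X.subgroupOf K := by
    rw [mem_subgroupOf]; exact hx
  have h1 := mem_normalizer_iff.mp (h hx')
  rw [mem_normalizer_iff]
  intro y
  constructor
  · intro hy
    have := (h1 ⟨y, hHK hy⟩).mp (by rw [mem_subgroupOf]; exact hy)
    rw [mem_subgroupOf] at this
    simpa using this
  · intro hy
    have hyK : y ∈ K := by
      have := hK.conj_mem _ (hHK hy) x⁻¹
      simpa [mul_assoc] using this
    have := (h1 ⟨y, hyK⟩).mpr (by rw [mem_subgroupOf]; simpa using hy)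
    rw [mem_subgroupOf] at this
    exact this

theorem isMinNormal_le_normalizer_aux (n : ℕ) : ∀ (G : Type u) [Group G] [Finite G],
    Nat.card G = n → ∀ M H : Subgroup G, IsMinNormal M → H.IsSubnormal →
      M ≤ normalizer (H : Set G) := by
  induction n using Nat.strong_induction_on with
  | _ n ih =>
    intro G _ _ hn M H hM hH
    obtain ⟨hMn, hMne, hMmin⟩ := hM
    by_cases hHtop : H = ⊤
    · subst hHtop
      intro x _
      rw [mem_normalizer_iff]
      intro h
      simp
    obtain ⟨K, hKn, hHK, hKlt⟩ := hH.exists_normal_and_le_and_lt_top_of_ne hHtop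
    by_cases hMK : M ⊓ K = ⊥
    · intro m hm
      have comm : ∀ k ∈ K, m * k * m⁻¹ = k := by
        intro k hk
        have h1 : m * k * m⁻¹ * k⁻¹ ∈ M ⊓ K := by
          refine mem_inf.mpr ⟨?_, ?_⟩
          · have := hMn.conj_mem _ (inv_mem hm) k
            have h2 := mul_mem hm this
            have e : m * (k * m⁻¹ * k⁻¹) = m * k * m⁻¹ * k⁻¹ := by group
            rwa [e] at h2
          · exact mul_mem (hKn.conj_mem _ hk m) (inv_mem hk)
        rw [hMK, mem_bot] at h1
        exact mul_inv_eq_one.mp h1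
      rw [mem_normalizer_iff]
      intro h
      constructor
      · intro hh
        rw [comm h (hHK hh)]; exact hh
      · intro hh
        have hhK : h ∈ K := by
          have := hKn.conj_mem _ (hHK hh) m⁻¹
          simpa [mul_assoc] using this
        rw [comm h hhK] at hh; exact hh
    · have hMleK : M ≤ K := by
        have hinf : (M ⊓ K).Normal := normal_inf_normal M K
        rcases hMmin _ hinf inf_le_left with h1 | h1
        · exact absurd h1 hMK
        · rw [← h1]; exact inf_le_right
      have hcard : Nat.card K < n := by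
        rw [← hn]
        refine lt_of_le_of_ne (card_le_card_group K) ?_
        intro hc
        exact hKlt.ne (eq_top_of_card_eq K hc)
      have key : ∀ X : Subgroup G, IsMinRel K X → X ≤ normalizer (H : Set G) := by
        intro X hX
        have h1 := ih _ hcard K rfl (X.subgroupOf K) (H.subgroupOf K) hX.isMinNormal_subgroupOf
          hH.subgroupOf
        exact le_normalizer_of_subgroupOf_le_normalizer hX.1 hHK hKn h1
      have hKM : K ≤ normalizer (M : Set G) := by
        rw [normalizer_eq_top_iff.mpr hMn]; exact le_top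
      obtain ⟨X₀, hX₀, hX₀M⟩ := exists_isMinRel_le K M hMleK hKM hMne
      have hcl1 : normalClosure (X₀ : Set G) ≤ M := normalClosure_le_normal hX₀M
      have hcl2 : normalClosure (X₀ : Set G) = M := by
        rcases hMmin _ normalClosure_normal hcl1 with h1 | h1
        · exfalso
          apply hX₀.2.1
          rw [eq_bot_iff, ← h1]
          exact le_normalClosure
        · exact h1
      rw [← hcl2]
      show closure (Group.conjugatesOfSet (X₀ : Set G)) ≤ normalizer (H : Set G)
      rw [closure_le]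
      intro a ha
      rw [Group.mem_conjugatesOfSet_iff] at ha
      obtain ⟨x, hx, hxa⟩ := ha
      rw [isConj_iff] at hxa
      obtain ⟨c, rfl⟩ := hxa
      have h2 := key _ (hX₀.conj_smul c)
      apply h2
      rw [mem_pointwise_smul_iff_inv_smul_mem]
      simp only [MulAut.smul_def, ← map_inv, MulAut.conj_apply, inv_inv]
      have e : c⁻¹ * (c * x * c⁻¹) * c = x := by group
      rw [e]; exact hx

/-- A minimal normal subgroup of a finite group normalizes every subnormal subgroup. -/
theorem IsMinNormal.le_normalizer {G : Type u} [Group G] [Finite G] {M H : Subgroup G}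
    (hM : IsMinNormal M) (hH : H.IsSubnormal) : M ≤ normalizer (H : Set G) :=
  isMinNormal_le_normalizer_aux _ G rfl M H hM hH

end Cfsg.Agent.Lib.Helper96
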